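import Groth.Agent.Lib.RRKL13.Cube
import Groth.Agent.Lib.Poinc13.Fibres
import Groth.Agent.Lib.RR22.Classify
import Groth.Agent.Lib.Seesaw13.KL
import Groth.Agent.Lib.MTRigid29.CentralizerNormalizer
import Groth.Agent.Lib.ThetaGrp19.Kernel
import Groth.Agent.Lib.ThetaSch13.Quot
import Groth.Agent.S3030
import Groth.Agent.S19948

/-!
# Descent of the Mumford class to `A × A/K(L)`
-/

set_option autoImplicit false
set_option linter.style.haveILetI false
set_option linter.unusedSectionVars false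
set_option backward.isDefEq.respectTransparency.types false
set_option maxHeartbeats 1000000

universe u

open CategoryTheory CategoryTheory.Limits MonoidalCategory CartesianMonoidalCategory MonObj AlgebraicGeometry
open scoped MonObj GrpObj
open CategoryTheory.Pseudofunctor

noncomputable section

namespace Groth.Agent.RRKL13

open ThetaGrp ThetaGrp19 AlgEquiv22 Groth.Agent.AbDual21 Groth.Agent.PicDesc21 RR22

noncomputable local instance instLawDesc (Y : Scheme.{u}) : PicGrp.Law Y := M2.law Y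

section Transport

variable {S : Scheme.{u}} {A B : Over S} [GrpObj A] [IsCommMonObj A] [GrpObj B] [IsCommMonObj B]

/-- Commutation can be tested after pulling back along a homomorphism, if the pullback is trivial. -/
theorem commute_of_trivial_pullback (hA : HZero A) (hB : HZero B) (f : A ⟶ B) [IsMonHom f]
    {M : B.left.Modules} (hM : PicF.IsInvertible M) {M₀ : (𝟙_ (Over S)).left.Modules} (hM₀ : PicF.IsInvertible M₀)
    (φ : (Scheme.Modules.pullback (toUnit A).left).obj M₀ ≅ (Scheme.Modules.pullback f.left).obj M)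
    {T : Over S} (x z : T ⟶ A) {β₁ β₂ : thetaPts B M T} (h₁ : IsOverPt β₁ (x ≫ f)) (h₂ : IsOverPt β₂ (z ≫ f)) :
    β₁ * β₂ = β₂ * β₁ := by
  set L₀ := (Scheme.Modules.pullback (toUnit A).left).obj M₀
  have hL₀ : PicF.IsInvertible L₀ := PicLoc.isInvertible_pullback _ hM₀
  obtain ⟨F, ⟨hFb, hF⟩, -⟩ := existsUnique_lift (isCart_proj B M T)
    (proj A L₀ T ≫ (⟨f.left, φ.hom⟩ : (⟨A.left, L₀⟩ : CoGrothendieck (modPF.{u})) ⟶ ⟨B.left, M⟩)) (f ▷ T).left (by
      show (f ▷ T).left ≫ (fst B T).left = (fst A T).left ≫ f.left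
      rw [← Over.comp_left, ← Over.comp_left, whiskerRight_fst])
  have hc : IsCart F := by
    refine IsCart.of_comp ?_ (isCart_proj B M T)
    rw [hF]
    exact (isCart_proj A _ T).comp (inferInstanceAs (IsIso φ.hom))
  have hbt : ∀ y : T ⟶ A, (transl A y).left ≫ F.base = F.base ≫ (transl B (y ≫ f)).left := fun y => by
    rw [hFb, ← mapObj_base f M T]
    exact transl_mapObj_base f M T y
  obtain ⟨π₁, hπ₁, e₁⟩ := exists_pullPt F hc (hbt x) β₁ h₁
  obtain ⟨π₂, hπ₂, e₂⟩ := exists_pullPt F hc (hbt z) β₂ h₂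
  obtain ⟨r, hr⟩ := exists_isComm hB hM β₁ β₂
  have hn := IsComm.natural hM F hc (𝟙 T) (by rw [hFb, ← mapObj_base f M T]; exact mapObj_base_snd f M T) e₁ e₂ hr
  have hz : z ≫ toUnit A = 1 := by rw [Hom.one_def]; exact toUnit_unique _ _
  have hπ : π₁ * π₂ = π₂ * π₁ := commute_kernel (toUnit A) hA hM₀ hz (fun t => ⟨⊤, trivial, 1, by
    rw [show x ≫ toUnit A = 1 by rw [Hom.one_def]; exact toUnit_unique _ _, MonObj.comp_one, IsOverPt, transl_one]
    rfl⟩) hπ₁ hπ₂
  refine (mul_comm_iff hB hM hr).2 ?_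
  have := (mul_comm_iff hA hL₀ hn).1 hπ
  rwa [Over.id_left, Scheme.Hom.id_appTop] at this

end Transport

variable {k : Type u} [Field k] [IsAlgClosed k] {A : Over (Spec (CommRingCat.of k))} [GrpObj A]
  [IsProper A.hom] [GeometricallyIntegral A.hom]

theorem pb_mumC {V : Over (Spec (CommRingCat.of k))} (a b : V ⟶ A) (c : PicLoc.PicSet A.left) :
    pb (lift a b) (mumC c) = pb (a * b) c * (pb a c)⁻¹ * (pb b c)⁻¹ := by
  simp only [mumC, map_mul, map_inv, pb_pb, MonObj.comp_mul, lift_fst, lift_snd]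

theorem pb_one_map {V : Over (Spec (CommRingCat.of k))} (c : PicLoc.PicSet A.left) :
    pb (1 : V ⟶ A) c = 1 := by
  rw [show (1 : V ⟶ A) = toUnit V ≫ η[A] from Hom.one_def, ← pb_pb, point_eq_one (pb η[A] c), map_one]

theorem pb_mumC_one_left {V : Over (Spec (CommRingCat.of k))} (b : V ⟶ A) (c : PicLoc.PicSet A.left) :
    pb (lift 1 b) (mumC c) = 1 := by
  rw [pb_mumC, _root_.one_mul, pb_one_map, inv_one, _root_.mul_one, mul_inv_cancel]

theorem pb_mumC_one_right {V : Over (Spec (CommRingCat.of k))} (a : V ⟶ A) (c : PicLoc.PicSet A.left) :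
    pb (lift a 1) (mumC c) = 1 := by
  rw [pb_mumC, _root_.mul_one, pb_one_map, inv_one, _root_.mul_one, mul_inv_cancel]

variable {L : A.left.Modules} (hL : PicF.IsInvertible L)

theorem P_eq {V : Over (Spec (CommRingCat.of k))} (f : V ⟶ A) :
    CubeField.P L hL f = pb f (PicGrp.cls L hL) := by
  rw [← CubeField.P_id (hL := hL), pb, CubeField.pullHom_P, Category.comp_id]

variable {K : Over (Spec (CommRingCat.of k))} {i : K ⟶ A} (hK : IsKL A L i)

include hK in
/-- Translation by a point of `K(L)` leaves the class additive. -/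
theorem add_KL {V : Over (Spec (CommRingCat.of k))} (a : V ⟶ A) (y : V ⟶ K) :
    pb (a * (y ≫ i)) (PicGrp.cls L hL) = pb a (PicGrp.cls L hL) * pb (y ≫ i) (PicGrp.cls L hL) := by
  have h := CubeField.add_of_crit (CubeField.crit_of_isKL hL hK y) a (𝟙 V)
  simpa only [P_eq, Category.id_comp] using h

include hK hL in
/-- `K(L)` is a subgroup. -/
theorem exists_grpObj_KL : ∃ _ : GrpObj K, IsMonHom i := by
  haveI : IsClosedImmersion i.left := hK.closed
  haveI : Mono ((Over.forget (Spec (CommRingCat.of k))).map i) := inferInstanceAs (Mono i.left)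
  haveI : Mono i := (Over.forget (Spec (CommRingCat.of k))).mono_of_mono_map ‹_›
  exact MTRigid29.exists_grpObj_of_subgroup i (fun _ a b => CubeField.mul_factors hL hK a b)
    (CubeField.one_factors hL hK) (fun _ a => CubeField.inv_factors hL hK a)

variable [IsCommMonObj A]

include hK hL in
/-- The Mumford class descends to the quotient by `K(L)`. -/
theorem exists_descent [GrpObj K] [IsMonHom i] [IsFinite K.hom] {Q : Over (Spec (CommRingCat.of k))} [GrpObj Q]
    [IsProper Q.hom] [GeometricallyIntegral Q.hom] [IsCommMonObj Q] (q : A ⟶ Q) [IsMonHom q] [IsFinite q.left]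
    [Surjective q.left] [Flat q.left] (hq : AlgGrp.IsKernel i q) :
    ∃ p : PicLoc.PicSet (A ⊗ Q).left, pb (A ◁ q) p = mumC (PicGrp.cls L hL) := by
  haveI : IsProper (A ⊗ A).hom := inferInstanceAs (IsProper (pullback.fst A.hom A.hom ≫ A.hom))
  haveI : GeometricallyIntegral (A ⊗ A).hom := AbRigid.geometricallyIntegral_tensorObj A A
  haveI : IsProper (A ⊗ Q).hom := inferInstanceAs (IsProper (pullback.fst A.hom Q.hom ≫ A.hom))
  haveI : GeometricallyIntegral (A ⊗ Q).hom := AbRigid.geometricallyIntegral_tensorObj A Q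
  haveI : IsCommMonObj (A ⊗ A) := isCommMonObj_of_isProper_of_geometricallyIntegral _
  haveI : IsCommMonObj (A ⊗ Q) := isCommMonObj_of_isProper_of_geometricallyIntegral _
  obtain ⟨Λ, hΛ, hΛc⟩ := PicGrp.exists_eq_cls (mumC (PicGrp.cls L hL))
  -- the kernel of `1 × q`
  let j : K ⟶ A ⊗ A := lift 1 i
  haveI : IsMonHom j := TorsorSch25.isMonHom_of_points j fun T x y => by
    simp only [j, comp_lift, MonObj.comp_one, MonObj.mul_comp]
    apply CartesianMonoidalCategory.hom_ext <;> simp [MonObj.mul_comp]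
  haveI : IsMonHom (A ◁ q) := inferInstance
  have hj : AlgGrp.IsKernel j (A ◁ q) := by
    refine ⟨⟨?_⟩, ⟨PullbackCone.IsLimit.mk _ (fun s => hq.lift (s.fst ≫ snd A A) s.snd ?_) ?_ ?_ ?_⟩⟩
    · refine CartesianMonoidalCategory.hom_ext _ _ ?_ ?_
      · rw [Category.assoc, Category.assoc, whiskerLeft_fst, lift_fst, Hom.one_def]
        exact congrArg (toUnit K ≫ ·) (IsMonHom.one_hom (f := fst A Q)).symm
      · rw [Category.assoc, Category.assoc, whiskerLeft_snd, lift_snd_assoc, hq.w]
        exact congrArg (toUnit K ≫ ·) (IsMonHom.one_hom (f := snd A Q)).symm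
    · have := congrArg (· ≫ snd A Q) s.condition
      simp only [Category.assoc, whiskerLeft_snd] at this
      rw [Category.assoc, this]
      exact congrArg (s.snd ≫ ·) (IsMonHom.one_hom (f := snd A Q))
    · intro s
      apply CartesianMonoidalCategory.hom_ext
      · have := congrArg (· ≫ fst A Q) s.condition
        simp only [Category.assoc, whiskerLeft_fst] at this
        rw [Category.assoc, lift_fst, MonObj.comp_one, this, Hom.one_def, toUnit_unique s.snd (toUnit _)]
        exact congrArg (toUnit _ ≫ ·) (IsMonHom.one_hom (f := fst A Q)).symm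
      · rw [Category.assoc, lift_snd, hq.lift_fst]
    · exact fun s => toUnit_unique _ _
    · intro s m hm _
      refine hq.hom_ext ?_ (toUnit_unique _ _)
      rw [hq.lift_fst, ← hm, Category.assoc, lift_snd]
  obtain ⟨hfin, hflat, hsurj⟩ : IsFinite (A ◁ q).left ∧ Flat (A ◁ q).left ∧ Surjective (A ◁ q).left := by
    obtain ⟨d, hd, -, -⟩ := IsogEuler22.exists_free q
    obtain ⟨h1, h2, -⟩ := finrank_whiskerLeft (A := A) q hd
    refine ⟨h1, h2, ?_⟩
    have hpb : IsPullback (snd A A).left (A ◁ q).left q.left (snd A Q).left := by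
      refine IsPullback.of_bot ?_ (congrArg CommaMorphism.left (whiskerLeft_snd A q)).symm
        (IsPullback.of_hasPullback A.hom Q.hom).flip
      have h1 : (A ◁ q).left ≫ pullback.fst A.hom Q.hom = pullback.fst A.hom A.hom :=
        congrArg CommaMorphism.left (whiskerLeft_fst A q)
      rw [Over.w q, h1]
      exact (IsPullback.of_hasPullback A.hom A.hom).flip
    exact MorphismProperty.of_isPullback (P := @Surjective) hpb ‹Surjective q.left›
  obtain ⟨K', i', hK'⟩ := Seesaw13.exists_isKL (A := A ⊗ A) hΛ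
  have hPΛ : ∀ {V : Over (Spec (CommRingCat.of k))} (a : V ⟶ A ⊗ A),
      CubeField.P Λ hΛ a = pb (a ≫ fst A A * a ≫ snd A A) (PicGrp.cls L hL) *
        (pb (a ≫ fst A A) (PicGrp.cls L hL))⁻¹ * (pb (a ≫ snd A A) (PicGrp.cls L hL))⁻¹ := fun a => by
    rw [P_eq hΛ, ← hΛc, ← pb_mumC, show lift (a ≫ fst A A) (a ≫ snd A A) = a by
      apply CartesianMonoidalCategory.hom_ext <;> simp]
  have hfac : ∃ y : K ⟶ K', y ≫ i' = j := by
    refine (hK'.univ _ _).1 ((CubeField.isMumfordTriv_iff hΛ _).2 ?_)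
    simp only [hPΛ, MonObj.comp_mul, MonObj.mul_comp, Category.assoc, j, lift_fst, lift_snd, MonObj.comp_one,
      _root_.mul_one, _root_.one_mul, pb_one_map, inv_one]
    rw [← _root_.mul_assoc (fst (A ⊗ A) K ≫ fst A A), add_KL hL hK _ (snd (A ⊗ A) K),
      add_KL hL hK _ (snd (A ⊗ A) K), mul_inv_cancel, _root_.mul_one, mul_inv]
    have hG : ∀ {G : Type (u + 1)} [CommGroup G] (a b c d : G), a * (c * (b * (d * c⁻¹))) = a * (b * d) := fun a b c d => by
      rw [show c * (b * (d * c⁻¹)) = (b * d) * (c * c⁻¹) by ac_rfl, mul_inv_cancel, _root_.mul_one]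
    simp only [_root_.mul_assoc]
    exact hG (G := PicLoc.PicSet ((A ⊗ A) ⊗ K).left) _ _ _ _
  have hiso : IsIsotropic Λ j := by
    intro T x y β₁ β₂ h₁ h₂
    let f : A ⟶ A ⊗ A := lift 1 (𝟙 A)
    haveI : IsMonHom f := TorsorSch25.isMonHom_of_points f fun T a b => by
      simp only [f, comp_lift, MonObj.comp_one, Category.comp_id]
      apply CartesianMonoidalCategory.hom_ext <;> simp [MonObj.mul_comp]
    have hj' : ∀ w : T ⟶ K, (w ≫ i) ≫ f = w ≫ j := fun w => by
      apply CartesianMonoidalCategory.hom_ext <;> simp [f, j]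
    obtain ⟨φ⟩ : Nonempty ((Scheme.Modules.pullback (toUnit A).left).obj (Coh.structureModule _) ≅
        (Scheme.Modules.pullback f.left).obj Λ) := by
      refine (PicGrp.cl_eq_cl_iff _ _).1 ?_
      rw [← PicLoc.pullCl_cl, ← PicLoc.pullCl_cl, pullCl_structure]
      have h := congrArg Subtype.val (pb_mumC_one_left (𝟙 A) (PicGrp.cls L hL))
      rw [hΛc] at h
      exact h.symm
    exact commute_of_trivial_pullback (hzero_of_field A) (hzero_of_field (A ⊗ A)) f hΛ
      (PicLoc.isInvertible_structureModule _) φ (x ≫ i) (y ≫ i) (by rw [hj']; exact h₁) (by rw [hj']; exact h₂)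
  obtain ⟨M, hM, ⟨e⟩⟩ := (Groth.Agent.S19948.result k (A ⊗ A) (A ⊗ Q) (A ◁ q) hsurj K j hj Λ hΛ K' i' hK').2
    ⟨hfac, hiso⟩
  exact ⟨PicGrp.cls M hM, by rw [pb, PicGrp.pullHom_cls, hΛc]; exact (PicGrp.cls_eq_cls_iff _ _).2 ⟨e⟩⟩

include hK hL in
/-- The quotient by `K(L)` carries a class with the properties of a Poincaré class pulling back to the Mumford
class. -/
theorem exists_pLike [IsFinite K.hom] :
    ∃ (_ : GrpObj K) (Q : Over (Spec (CommRingCat.of k))) (_ : GrpObj Q) (q : A ⟶ Q) (P : (PicF.XT A.hom Q).Modules)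
      (hP : PicF.IsInvertible P),
      IsMonHom i ∧ IsMonHom q ∧ IsProper Q.hom ∧ GeometricallyIntegral Q.hom ∧ IsFinite q.left ∧ Flat q.left ∧
      Surjective q.left ∧ AlgGrp.IsKernel i q ∧ Poinc13.IsPLike A Q P ∧
      pb (A ◁ q) (PicGrp.cls P hP) = mumC (PicGrp.cls L hL) := by
  obtain ⟨gK, hgi⟩ := exists_grpObj_KL hL hK
  haveI := hgi
  haveI : IsClosedImmersion i.left := hK.closed
  haveI : Mono ((Over.forget (Spec (CommRingCat.of k))).map i) := inferInstanceAs (Mono i.left)
  haveI : Mono i := (Over.forget (Spec (CommRingCat.of k))).mono_of_mono_map ‹_›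
  have hN : AlgGrp.IsNormalHom i := fun T g n =>
    ⟨n, by rw [mul_comm g, _root_.mul_assoc, mul_inv_cancel, _root_.mul_one]⟩
  obtain ⟨Q, gQ, q, hqm, hqf, hqs, hqp, hq, hsep, -, -⟩ := S3030.result k K A i hN
  haveI := hqm; haveI := hqf; haveI := hqs; haveI := hqp; haveI := hsep
  haveI : IsProper (q.left ≫ Q.hom) := by rw [Over.w q]; infer_instance
  haveI : GeometricallyIntegral (q.left ≫ Q.hom) := by rw [Over.w q]; infer_instance
  haveI : IsProper Q.hom := ThetaSch13.isProper_of_fppf q.left Q.hom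
  haveI : GeometricallyIntegral Q.hom := ThetaSch13.geometricallyIntegral_of_flat_surjective q.left Q.hom
  haveI : IsCommMonObj Q := isCommMonObj_of_isProper_of_geometricallyIntegral Q
  have hi1 : i ≫ q = 1 := by rw [hq.w, Hom.one_def]
  haveI : Finite K.left := by
    refine Set.finite_univ_iff.1 ((K.hom.finite_preimage_singleton (IsLocalRing.closedPoint k)).subset fun x _ => ?_)
    exact @Subsingleton.elim _ (inferInstanceAs (Subsingleton (PrimeSpectrum k))) _ _
  haveI : Finite (𝟙_ (Over (Spec (CommRingCat.of k))) ⟶ K) :=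
    Finite.of_injective CubeField.rpt CubeField.rpt_injective
  haveI : IsFinite q.left := Index22.isFinite_of_finite_points q fun b => by
    by_cases he : ∃ a₀ : 𝟙_ (Over (Spec (CommRingCat.of k))) ⟶ A, a₀ ≫ q = b
    · obtain ⟨a₀, rfl⟩ := he
      refine ((Set.finite_range fun w : 𝟙_ (Over (Spec (CommRingCat.of k))) ⟶ K => (w ≫ i) * a₀)).subset
        fun a (ha : a ≫ q = a₀ ≫ q) => ?_
      refine ⟨hq.lift (a * a₀⁻¹) (toUnit _) ?_, ?_⟩
      · rw [MonObj.mul_comp, GrpObj.inv_comp, ha, mul_inv_cancel, Hom.one_def]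
      · show hq.lift _ _ _ ≫ i * a₀ = a
        rw [hq.lift_fst, inv_mul_cancel_right]
    · exact Set.finite_empty.subset fun a ha => absurd ⟨a, ha⟩ he
  obtain ⟨p₀, hp₀⟩ := exists_descent hL hK q hq
  let p : PicLoc.PicSet (A ⊗ Q).left := p₀ * (pb (snd A Q) (pb (lift (1 : Q ⟶ A) (𝟙 Q)) p₀))⁻¹
  have hp : pb (A ◁ q) p = mumC (PicGrp.cls L hL) := by
    simp only [p, map_mul, map_inv, pb_pb, whiskerLeft_snd_assoc]
    rw [hp₀, show snd A A ≫ q ≫ lift (1 : Q ⟶ A) (𝟙 Q) = lift 1 (snd A A) ≫ A ◁ q by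
      apply CartesianMonoidalCategory.hom_ext <;> simp, ← pb_pb, hp₀, pb_mumC_one_left, inv_one, _root_.mul_one]
  have h0 : pb (lift (1 : Q ⟶ A) (𝟙 Q)) p = 1 := by
    simp only [p, map_mul, map_inv, pb_pb, lift_snd_assoc, Category.id_comp, mul_inv_cancel]
  have ho : pb (lift (𝟙 A) (toUnit A ≫ η[Q])) p = 1 := by
    rw [show lift (𝟙 A) (toUnit A ≫ η[Q]) = lift (𝟙 A) (1 : A ⟶ A) ≫ A ◁ q by
      apply CartesianMonoidalCategory.hom_ext <;> simp [MonObj.one_comp, Hom.one_def], ← pb_pb, hp, pb_mumC_one_right]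
  obtain ⟨P, hP, hPc⟩ := PicGrp.exists_eq_cls p
  have hval : ∀ {V : Over (Spec (CommRingCat.of k))} (w : V ⟶ A ⊗ Q),
      PicF.pullCl w.left (PicF.cl P) = (pb w p).1 := fun w => by
    rw [hPc, pb, PicGrp.pullHom_cls, PicGrp.cls_val, PicLoc.pullCl_cl]
  haveI : IsIntegral Q.left := GeometricallyIntegral.isIntegral_of_subsingleton Q.hom
  refine ⟨gK, Q, gQ, q, P, hP, hgi, hqm, inferInstance, inferInstance, inferInstance, hqf, hqs, hq,
    ⟨fun f g t => ?_, fun {T} t => ?_, Index22.dim_le_of_isFinite q.left⟩, by rw [← hPc, hp]⟩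
  · rw [hval, hval, hval, add_of_normalised η[Q] h0 ho f g t, PicGrp.mul_val]
  · constructor
    · intro h
      rw [hval] at h
      let T' : Over (Spec (CommRingCat.of k)) := Over.mk (pullback.fst t.left q.left ≫ T.hom)
      let π : T' ⟶ T := Over.homMk (pullback.fst t.left q.left) rfl
      let x : T' ⟶ A := Over.homMk (pullback.snd t.left q.left) (by
        show pullback.snd t.left q.left ≫ A.hom = pullback.fst t.left q.left ≫ T.hom
        rw [← Over.w q, ← Over.w t, pullback.condition_assoc])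
      have hx : π ≫ t = x ≫ q := Over.OverMorphism.ext pullback.condition
      have h1 : pb (A ◁ t) p = 1 := Subtype.ext h
      have h2 : pb (A ◁ x) (mumC (PicGrp.cls L hL)) = 1 := by
        rw [← hp, pb_pb, ← MonoidalCategory.whiskerLeft_comp, ← hx, MonoidalCategory.whiskerLeft_comp, ← pb_pb,
          h1, map_one]
      obtain ⟨y, hy⟩ := (hK.univ T' x).1 ((CubeField.isMumfordTriv_iff hL x).2 (by
        simp only [P_eq]
        rw [show A ◁ x = lift (fst A T') (snd A T' ≫ x) by
          apply CartesianMonoidalCategory.hom_ext <;> simp, pb_mumC, mul_inv_eq_one, mul_inv_eq_iff_eq_mul] at h2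
        rw [h2, mul_comm]))
      have h3 : π ≫ t = π ≫ 1 := by
        rw [hx, ← hy, Category.assoc, hi1, MonObj.comp_one, MonObj.comp_one]
      haveI : Flat (pullback.fst t.left q.left) := MorphismProperty.pullback_fst _ _ hqf
      haveI : Surjective (pullback.fst t.left q.left) := MorphismProperty.pullback_fst _ _ hqs
      haveI : QuasiCompact (pullback.fst t.left q.left) := MorphismProperty.pullback_fst _ _ inferInstance
      haveI : EffectiveEpi (pullback.fst t.left q.left) := MTRigid29.effectiveEpi_of_cover _ fun V hV =>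
        ⟨pullback.fst t.left q.left ⁻¹ᵁ V, (pullback.fst t.left q.left).isCompact_preimage hV.isCompact,
          Set.image_preimage_eq _ (pullback.fst t.left q.left).surjective⟩
      exact Over.OverMorphism.ext ((cancel_epi (pullback.fst t.left q.left)).1 (congrArg CommaMorphism.left h3))
    · rintro rfl
      rw [hval, show A ◁ (1 : T ⟶ Q) = fst A T ≫ lift (𝟙 A) (toUnit A ≫ η[Q]) by
        apply CartesianMonoidalCategory.hom_ext <;> simp [Hom.one_def], ← pb_pb, ho, map_one]
      rfl

end Groth.Agent.RRKL13
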