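import Mathlib.AlgebraicGeometry.Morphisms.FlatRank
import Mathlib.RingTheory.LocalRing.Module
import Mathlib.RingTheory.Artinian.Ring

/-!
# Multiplicativity of the rank over a finite scheme over a field
-/

set_option autoImplicit false
set_option linter.style.haveILetI false

universe u

open CategoryTheory AlgebraicGeometry
open scoped TensorProduct

noncomputable section

namespace Groth.Agent.RRKL13

/-- A finite flat module of constant rank over an artinian ring is free of that rank. -/
theorem free_of_rankAtStalk {R M : Type u} [CommRing R] [IsArtinianRing R] [AddCommGroup M] [Module R M]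
    [Module.Finite R M] [Module.Flat R M] (d : ℕ) (hd : ∀ p : PrimeSpectrum R, Module.rankAtStalk M p = d) :
    Nonempty (Module.Basis (Fin d) R M) := by
  refine Module.nonempty_basis_of_flat_of_finrank_eq R M d fun P => ?_
  letI := Ideal.Quotient.field P.1
  let q : PrimeSpectrum (R ⧸ P.1) := ⟨⊥, Ideal.isPrime_bot⟩
  have h := congrFun (Module.rankAtStalk_eq_finrank_of_free (R := R ⧸ P.1) (M := (R ⧸ P.1) ⊗[R] M)) q
  rw [Module.rankAtStalk_baseChange, hd] at h
  exact h.symm

theorem finrank_ring {k R S : Type u} [Field k] [CommRing R] [CommRing S] [Algebra k R] [Algebra R S] [Algebra k S]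
    [IsScalarTower k R S] [Module.Finite k R] [Module.Finite R S] [Module.Flat R S] (d : ℕ)
    (hd : ∀ p : PrimeSpectrum R, Module.rankAtStalk S p = d) :
    Module.finrank k S = d * Module.finrank k R := by
  haveI : IsArtinianRing R := IsArtinianRing.of_finite k R
  obtain ⟨b⟩ := free_of_rankAtStalk d hd
  haveI := Module.Free.of_basis b
  rcases subsingleton_or_nontrivial R with hR | hR
  · haveI : Subsingleton S := Module.subsingleton R S
    rw [Module.finrank_zero_of_subsingleton (R := k) (M := R), Module.finrank_zero_of_subsingleton (R := k) (M := S),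
      Nat.mul_zero]
  · rw [← Module.finrank_mul_finrank k R S, Module.finrank_eq_card_basis b, Fintype.card_fin, Nat.mul_comm]

/-- The rank of a finite scheme over a field, read from its functions. -/
theorem finrank_spec {k : Type u} [Field k] {R : CommRingCat.{u}} (φ : CommRingCat.of k ⟶ R) (hφ : φ.hom.Finite)
    (s : Spec (CommRingCat.of k)) :
    letI := φ.hom.toAlgebra
    Scheme.Hom.finrank (Spec.map φ) s = Module.finrank k R := by
  letI := φ.hom.toAlgebra
  have hfl : φ.hom.Flat := Module.Flat.of_free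
  rw [Scheme.Hom.finrank_SpecMap_eq_finrank hφ hfl]
  show RingHom.finrank (algebraMap k R) s = _
  rw [RingHom.finrank_algebraMap]
  exact congrFun (Module.rankAtStalk_eq_finrank_of_free (R := k) (M := R)) s

/-- Ranks multiply. -/
theorem finrank_comp {k : Type u} [Field k] {X Y : Scheme.{u}} (h : X ⟶ Y) (g : Y ⟶ Spec (CommRingCat.of k))
    [IsFinite h] [Flat h] [IsFinite g] (d : ℕ) (hd : ∀ y : Y, Scheme.Hom.finrank h y = d)
    (s : Spec (CommRingCat.of k)) :
    Scheme.Hom.finrank (h ≫ g) s = d * Scheme.Hom.finrank g s := by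
  haveI : IsAffine Y := isAffine_of_isAffineHom g
  haveI : IsAffine X := isAffine_of_isAffineHom h
  let φ := Spec.preimage (Y.isoSpec.inv ≫ g)
  let ψ := Spec.preimage (X.isoSpec.inv ≫ h ≫ Y.isoSpec.hom)
  have hψ : Spec.map ψ = X.isoSpec.inv ≫ h ≫ Y.isoSpec.hom := Spec.map_preimage _
  have hφ : Spec.map φ = Y.isoSpec.inv ≫ g := Spec.map_preimage _
  have hcomp : Spec.map (φ ≫ ψ) = X.isoSpec.inv ≫ h ≫ g := by simp [Spec.map_comp, hψ, hφ]
  haveI : IsFinite (Spec.map φ) := by rw [hφ]; infer_instance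
  haveI : Flat (Spec.map φ) := by rw [hφ]; infer_instance
  haveI : IsFinite (Spec.map ψ) := by rw [hψ]; infer_instance
  haveI : Flat (Spec.map ψ) := by rw [hψ]; infer_instance
  have fφ : φ.hom.Finite := (IsFinite.SpecMap_iff _).1 inferInstance
  have fψ : ψ.hom.Finite := (IsFinite.SpecMap_iff _).1 inferInstance
  have gψ : ψ.hom.Flat := (Flat.SpecMap_iff).1 inferInstance
  letI := φ.hom.toAlgebra
  letI := ψ.hom.toAlgebra
  letI := (φ ≫ ψ).hom.toAlgebra
  haveI : IsScalarTower k Γ(Y, ⊤) Γ(X, ⊤) := IsScalarTower.of_algebraMap_eq' rfl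
  haveI : Module.Finite k Γ(Y, ⊤) := fφ
  haveI : Module.Finite Γ(Y, ⊤) Γ(X, ⊤) := fψ
  haveI : Module.Flat Γ(Y, ⊤) Γ(X, ⊤) := gψ
  have hr : ∀ p : PrimeSpectrum Γ(Y, ⊤), Module.rankAtStalk Γ(X, ⊤) p = d := fun p => by
    have h1 := congrFun (Scheme.Hom.finrank_SpecMap_eq_finrank fψ gψ) p
    have hsq : IsPullback X.isoSpec.inv (Spec.map ψ) h Y.isoSpec.inv :=
      IsPullback.of_horiz_isIso ⟨by simp [hψ]⟩
    rw [Scheme.Hom.finrank_of_isPullback _ _ _ _ hsq, hd] at h1
    exact ((congrFun (RingHom.finrank_algebraMap (R := Γ(Y, ⊤)) (S := Γ(X, ⊤))) p).symm.trans h1.symm)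
  rw [← Scheme.Hom.finrank_comp_left_of_isIso X.isoSpec.inv (h ≫ g),
    ← Scheme.Hom.finrank_comp_left_of_isIso Y.isoSpec.inv g]
  have e1 := finrank_spec (φ ≫ ψ) (fψ.comp fφ) s
  have e2 := finrank_spec φ fφ s
  rw [hφ] at e2
  rw [hcomp] at e1
  rw [e1, e2]
  exact finrank_ring d hr

end Groth.Agent.RRKL13
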