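import Groth.Agent.Lib.RRKL13.RR
import Groth.Agent.Lib.RRKL13.Rank
import Groth.Agent.Lib.Index22.Descend
import Groth.Agent.Lib.RR22.Classify
import Groth.Agent.Lib.DiagGL.Chars

/-!
# `K(L)` and base change to an algebraic closure; isogenies
-/

set_option autoImplicit false
set_option linter.style.haveILetI false
set_option linter.unusedSectionVars false
set_option maxHeartbeats 1000000
set_option backward.isDefEq.respectTransparency false

universe u

open CategoryTheory CategoryTheory.Limits MonoidalCategory CartesianMonoidalCategory AlgebraicGeometry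
open scoped MonObj GrpObj CategoryTheory.Obj

noncomputable section

namespace Groth.Agent.RRKL13

open Groth.Agent.CubeField Groth.Agent.Index22 Groth.Agent.PicDesc21

noncomputable local instance instLawBC (Y : Scheme.{u}) : PicGrp.Law Y := M2.law Y

variable {k : Type u} [Field k] {A : Over (Spec (CommRingCat.of k))} [GrpObj A]

/-- The product over the closure as a product over the field. -/
def prodMap (T : Over (Spec (CommRingCat.of (AlgebraicClosure k)))) :
    (Over.map (φbar k)).obj (bar A ⊗ T) ⟶ A ⊗ (Over.map (φbar k)).obj T :=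
  lift (DiagGL.fl (φbar k) A (fst (bar A) T)) ((Over.map (φbar k)).map (snd (bar A) T))

theorem fl_left {T : Over (Spec (CommRingCat.of (AlgebraicClosure k)))} (x : T ⟶ bar A) :
    (DiagGL.fl (φbar k) A x).left = x.left ≫ prj A := by
  simp [DiagGL.fl, Adjunction.homEquiv_counit]

theorem isIso_prodMap_left (T : Over (Spec (CommRingCat.of (AlgebraicClosure k)))) : IsIso (prodMap (A := A) T).left := by
  have h1 : IsPullback (fst (bar A) T).left (snd (bar A) T).left (bar A).hom T.hom := IsPullback.of_hasPullback _ _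
  have h2 : IsPullback (prj A) (bar A).hom A.hom (φbar k) := IsPullback.of_hasPullback _ _
  have h3 : IsPullback (fst A ((Over.map (φbar k)).obj T)).left (snd A ((Over.map (φbar k)).obj T)).left A.hom
      (T.hom ≫ φbar k) := IsPullback.of_hasPullback _ _
  let e := (h1.paste_horiz h2).isoIsPullback _ _ h3
  have he : (prodMap (A := A) T).left = e.hom := by
    apply h3.hom_ext
    · refine Eq.trans ?_ (IsPullback.isoIsPullback_hom_fst _ _ _ _).symm
      rw [← Over.comp_left, prodMap, lift_fst, fl_left]
    · refine Eq.trans ?_ (IsPullback.isoIsPullback_hom_snd _ _ _ _).symm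
      rw [← Over.comp_left, prodMap, lift_snd]
      rfl
  rw [he]
  infer_instance

/-- `K(L)` commutes with the passage to an algebraic closure. -/
theorem isKL_bar {L : A.left.Modules} (hL : PicF.IsInvertible L) {K : Over (Spec (CommRingCat.of k))} {i : K ⟶ A}
    (hK : ThetaGrp.IsKL A L i) :
    ThetaGrp.IsKL (bar A) ((Scheme.Modules.pullback (prj A)).obj L) ((Over.pullback (φbar k)).map i) := by
  have hsq := BorelFix21.isPullback_bc_map (φbar k) i
  refine ⟨MorphismProperty.of_isPullback (P := @IsClosedImmersion) hsq hK.closed, fun T z => ?_⟩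
  have hLb : PicF.IsInvertible ((Scheme.Modules.pullback (prj A)).obj L) := PicLoc.isInvertible_pullback _ hL
  have hP : ∀ {V : Over (Spec (CommRingCat.of (AlgebraicClosure k)))} (f : V ⟶ bar A),
      P ((Scheme.Modules.pullback (prj A)).obj L) hLb f = P L hL (DiagGL.fl (φbar k) A f) := fun f => by
    apply Subtype.ext
    simp only [P, PicGrp.cls_val]
    rw [← PicLoc.pullCl_cl, ← PicLoc.pullCl_cl, ← PicLoc.pullCl_cl, pullCl_pullCl, fl_left]
  haveI := isIso_prodMap_left (A := A) T
  have hpull : Function.Injective (PicGrp.pullHom (prodMap (A := A) T).left (M2.pullMul _)) := by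
    intro x y h
    apply Subtype.ext
    have h' := congrArg (fun c : PicLoc.PicSet _ => PicF.pullCl (inv (prodMap (A := A) T).left) c.1) h
    simp only [PicGrp.pullHom_apply_val, pullCl_pullCl, IsIso.inv_hom_id, PicLoc.pullCl_id] at h'
    exact h'
  have hcrit : ThetaGrp.IsMumfordTriv (bar A) ((Scheme.Modules.pullback (prj A)).obj L) z ↔
      ThetaGrp.IsMumfordTriv A L (DiagGL.fl (φbar k) A z) := by
    rw [isMumfordTriv_iff hLb, isMumfordTriv_iff hL, ← hpull.eq_iff]
    simp only [hP, map_mul, pullHom_P, MonObj.comp_mul, DiagGL.fl_mul, DiagGL.fl_comp, prodMap, lift_fst,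
      lift_snd_assoc]
  rw [hcrit, hK.univ]
  constructor
  · rintro ⟨y, hy⟩
    obtain ⟨y', rfl⟩ := ((Over.mapPullbackAdj (φbar k)).homEquiv T K).symm.surjective y
    exact ⟨y', DiagGL.fl_injective (φbar k) A (((Adjunction.homEquiv_naturality_right_symm _ _ _)).trans hy)⟩
  · rintro ⟨y, rfl⟩
    exact ⟨((Over.mapPullbackAdj (φbar k)).homEquiv T K).symm y, (Adjunction.homEquiv_naturality_right_symm _ _ _).symm⟩

variable [IsProper A.hom] [GeometricallyIntegral A.hom]

/-- A class of non-zero Euler characteristic has finite `K(L)`. -/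
theorem isFinite_of_euler_ne_zero [IsAlgClosed k] {L : A.left.Modules} (hL : PicF.IsInvertible L)
    {K : Over (Spec (CommRingCat.of k))} {i : K ⟶ A} (hK : ThetaGrp.IsKL A L i)
    (h : @Curv2.euler k _ A.left ⟨A.hom⟩ L ≠ 0) : IsFinite K.hom := by
  haveI := hK.closed
  haveI : IsProper K.hom := by rw [← Over.w i]; infer_instance
  haveI : JacobsonSpace K.left := LocallyOfFiniteType.jacobsonSpace K.hom
  have hfin : {a : 𝟙_ (Over (Spec (CommRingCat.of k))) ⟶ A |
      AlgEquiv22.pb (𝟙 A * (toUnit A ≫ a)) (PicGrp.cls L hL) = PicGrp.cls L hL}.Finite := by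
    by_contra hinf
    exact h (MumVan22.euler_eq_zero_of_infinite hL hinf)
  have hcl : (closedPoints K.left).Finite := by
    refine Set.Finite.of_finite_image (f := i.left) ((hfin.image rpt).subset ?_)
      i.left.isClosedEmbedding.injective.injOn
    rintro _ ⟨y, hy, rfl⟩
    obtain ⟨b, rfl⟩ := exists_rpt (X := K) hy
    refine ⟨b ≫ i, ?_, rpt_comp _ _⟩
    have h := add_of_crit (crit_of_isKL hL hK (toUnit A ≫ b)) (𝟙 A) (𝟙 A)
    simp only [P_eq, Category.id_comp, Category.assoc] at h
    show AlgEquiv22.pb (𝟙 A * (toUnit A ≫ b ≫ i)) (PicGrp.cls L hL) = _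
    rw [h, AlgEquiv22.pb_id, ← AlgEquiv22.pb_pb (toUnit A) (b ≫ i), AlgEquiv22.point_eq_one (AlgEquiv22.pb (b ≫ i) _),
      map_one, _root_.mul_one]
  have huniv : (Set.univ : Set K.left) = closedPoints K.left := by
    have h1 : IsClosed (closedPoints K.left) := by
      rw [← Set.biUnion_of_singleton (closedPoints K.left)]
      exact hcl.isClosed_biUnion fun y hy => hy
    rw [← closure_closedPoints (X := K.left), h1.closure_eq]
  haveI : LocallyQuasiFinite K.hom := LocallyQuasiFinite.of_finite_preimage_singleton _ fun s =>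
    (huniv.symm ▸ hcl : (Set.univ : Set K.left).Finite).subset (Set.subset_univ _)
  exact IsFinite.of_isProper_of_locallyQuasiFinite K.hom

/-- The rank of `K(f^*M)`. -/
theorem isFinite_KL_pullback [IsAlgClosed k] [IsCommMonObj A] {B : Over (Spec (CommRingCat.of k))} [GrpObj B]
    [IsCommMonObj B] [IsProper B.hom] [GeometricallyIntegral B.hom] (f : A ⟶ B) [IsMonHom f] [IsFinite f.left]
    [Flat f.left] [Surjective f.left] {d : ℕ} (hd : ∀ y : B.left, Scheme.Hom.finrank f.left y = d)
    {M : B.left.Modules} (hM : PicF.IsInvertible M) {KM : Over (Spec (CommRingCat.of k))} {iM : KM ⟶ B}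
    (hKM : ThetaGrp.IsKL B M iM) [IsFinite KM.hom] {r : ℕ}
    (hr : ∀ s : ↥(Spec (CommRingCat.of k)), Scheme.Hom.finrank KM.hom s = r)
    {L : A.left.Modules} (hL : PicF.IsInvertible L) (e : L ≅ (Scheme.Modules.pullback f.left).obj M)
    {K : Over (Spec (CommRingCat.of k))} {i : K ⟶ A} (hK : ThetaGrp.IsKL A L i) :
    IsFinite K.hom ∧ ∀ s : ↥(Spec (CommRingCat.of k)), Scheme.Hom.finrank K.hom s = d ^ 2 * r := by
  obtain ⟨g, hg⟩ := Index22.exists_dim (A := A)
  have hgB : topologicalKrullDim B.left = g := by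
    haveI : IsIntegral A.left := GeometricallyIntegral.isIntegral_of_subsingleton A.hom
    haveI : IsIntegral B.left := GeometricallyIntegral.isIntegral_of_subsingleton B.hom
    rw [← hg, AbRigid.dim_eq_of_isFinite_of_surjective A B f]
  have hχ : @Curv2.euler k _ A.left ⟨A.hom⟩ L = (d : ℤ) * @Curv2.euler k _ B.left ⟨B.hom⟩ M := by
    letI : A.left.Over (Spec (CommRingCat.of k)) := ⟨A.hom⟩
    rw [CurveCoh17.euler_iso (X := A.left) e, IsogEuler22.euler_pullback f d hd (CubeField.isCoh_of_isInvertible hM)]
  have hMr := euler_sq_KL hM hKM hr hgB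
  have hne : @Curv2.euler k _ A.left ⟨A.hom⟩ L ≠ 0 := by
    rw [hχ]
    refine mul_ne_zero ?_ ?_
    · have h1 : 1 ≤ d := by
        let s : ↥(Spec (CommRingCat.of k)) := IsLocalRing.closedPoint k
        rw [← hd (f.left (η[A].left s))]
        exact Scheme.Hom.one_le_finrank_map f.left _
      exact_mod_cast (by omega : d ≠ 0)
    · intro h0
      rw [h0] at hMr
      have h1 : 1 ≤ r := by
        haveI : Surjective KM.hom := ⟨fun t => by
          obtain ⟨y, hy⟩ := CubeField.one_factors (T := 𝟙_ (Over (Spec (CommRingCat.of k)))) hM hKM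
          exact ⟨y.left t, (Scheme.Hom.comp_apply _ _ _).symm.trans (by rw [Over.w y]; rfl)⟩⟩
        rw [← hr (IsLocalRing.closedPoint k)]
        exact (Scheme.Hom.one_le_finrank_iff_surjective KM.hom).2 inferInstance _
      simp at hMr
      omega
  haveI := isFinite_of_euler_ne_zero hL hK hne
  refine ⟨inferInstance, fun s => ?_⟩
  have hc : ∀ s' : ↥(Spec (CommRingCat.of k)), Scheme.Hom.finrank K.hom s' = Scheme.Hom.finrank K.hom s := fun s' => by
    rw [@Subsingleton.elim _ (inferInstanceAs (Subsingleton (PrimeSpectrum k))) s' s]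
  have h := euler_sq_KL hL hK hc hg
  rw [hχ, mul_pow, hMr] at h
  exact_mod_cast h.symm

end Groth.Agent.RRKL13
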