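import Groth.Agent.Lib.RRKL13.Descent
import Groth.Agent.Lib.Poinc13.Global
import Groth.Agent.Lib.RR22.RR
import Groth.Agent.Lib.AVDegree22.Degree

/-!
# `χ(L)² = rank K(L)`
-/

universe u

open CategoryTheory Limits MonoidalCategory CartesianMonoidalCategory AlgebraicGeometry TopologicalSpace Opposite
open scoped MonObj GrpObj

set_option linter.style.haveILetI false
set_option linter.unusedSectionVars false
set_option maxHeartbeats 1000000
set_option backward.isDefEq.respectTransparency false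

noncomputable section

namespace Groth.Agent.RRKL13

open Groth.Agent.AlgEquiv22 Groth.Agent.MumVan22 Groth.Agent.AbDual21 Groth.Agent.PicDesc21 Groth.Agent.RR22

noncomputable local instance instLawRRKL (Y : Scheme.{u}) : PicGrp.Law Y := M2.law Y

theorem finrank_eq_of_eq {X Y : Scheme.{u}} {f g : X ⟶ Y} (e : f = g) (y : Y) :
    Scheme.Hom.finrank f y = Scheme.Hom.finrank g y := by subst e; rfl

variable {k : Type u} [Field k] [IsAlgClosed k] {A : Over (Spec (CommRingCat.of k))} [GrpObj A]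
  [IsProper A.hom] [GeometricallyIntegral A.hom] [IsCommMonObj A]

/-- The Euler characteristic of a class with the properties of a Poincaré class. -/
theorem euler_pLike {Q : Over (Spec (CommRingCat.of k))} [GrpObj Q] [IsProper Q.hom] [GeometricallyIntegral Q.hom]
    {P : (PicF.XT A.hom Q).Modules} (hP : PicF.IsInvertible P) (hD : Poinc13.IsPLike A Q P) {g : ℕ}
    (hg : topologicalKrullDim A.left = g) :
    @Curv2.euler k _ (A ⊗ Q).left ⟨(A ⊗ Q).hom⟩ P = (-1) ^ g := by
  haveI : Smooth A.hom := @smooth_of_grpObj k _ _ A.hom _ (show GrpObj (Over.mk A.hom) from ‹GrpObj A›) _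
  haveI : Smooth Q.hom := @smooth_of_grpObj k _ _ Q.hom _ (show GrpObj (Over.mk Q.hom) from ‹GrpObj Q›) _
  haveI := CubeField.geometricallyConnected_of_irreducible A.hom
  haveI : HasInjectiveResolutions (A ⊗ Q).left.Modules := inferInstance
  letI : (A ⊗ Q).left.Over (Spec (CommRingCat.of k)) := ⟨(A ⊗ Q).hom⟩
  obtain ⟨h0, h1⟩ := Poinc13.main hP hD hg
  unfold Curv2.euler
  rw [finsum_eq_single _ g fun n hn => by
    haveI := h0 n hn
    rw [Module.finrank_zero_of_subsingleton, Nat.cast_zero, MulZeroClass.mul_zero]]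
  exact (congrArg (fun m : ℕ => (-1 : ℤ) ^ g * (m : ℤ)) h1).trans (by simp)

variable {L : A.left.Modules} (hL : PicF.IsInvertible L) {K : Over (Spec (CommRingCat.of k))} {i : K ⟶ A}
  (hK : ThetaGrp.IsKL A L i) [IsFinite K.hom]

include hK in
/-- A finite `K(L)` makes the class non-degenerate. -/
theorem nd_of_isKL : Index22.Nd (PicGrp.cls L hL) := by
  haveI : Finite K.left := by
    refine Set.finite_univ_iff.1 ((K.hom.finite_preimage_singleton (IsLocalRing.closedPoint k)).subset fun x _ => ?_)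
    exact @Subsingleton.elim _ (inferInstanceAs (Subsingleton (PrimeSpectrum k))) _ _
  haveI : Finite (𝟙_ (Over (Spec (CommRingCat.of k))) ⟶ K) :=
    Finite.of_injective CubeField.rpt CubeField.rpt_injective
  refine (Set.finite_range fun w : 𝟙_ (Over (Spec (CommRingCat.of k))) ⟶ K => w ≫ i).subset fun a ha => ?_
  refine (hK.univ _ a).1 ((CubeField.isMumfordTriv_iff hL a).2 ?_)
  simp only [P_eq]
  rw [← pb_pb (snd A _) a, point_eq_one (pb a _), map_one, _root_.mul_one]
  have e : fst A (𝟙_ (Over (Spec (CommRingCat.of k)))) * (snd A (𝟙_ (Over (Spec (CommRingCat.of k)))) ≫ a) =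
      fst A (𝟙_ (Over (Spec (CommRingCat.of k)))) ≫ (𝟙 A * (toUnit A ≫ a)) := by
    rw [MonObj.comp_mul, Category.comp_id, comp_toUnit_assoc,
      toUnit_unique (toUnit (A ⊗ 𝟙_ (Over (Spec (CommRingCat.of k))))) (snd A _)]
  rw [e, ← pb_pb, show pb (𝟙 A * (toUnit A ≫ a)) (PicGrp.cls L hL) = PicGrp.cls L hL from ha]

variable {d : ℕ} (hd : ∀ s : ↥(Spec (CommRingCat.of k)), Scheme.Hom.finrank K.hom s = d)

include hK hd in
/-- The Euler characteristic of the Mumford class. -/
theorem euler_mumford_KL {g : ℕ} (hg : topologicalKrullDim A.left = g) {Λ : (A ⊗ A).left.Modules}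
    (hΛi : PicF.IsInvertible Λ) (hΛc : PicGrp.cls Λ hΛi = mumC (PicGrp.cls L hL)) :
    @Curv2.euler k _ (A ⊗ A).left ⟨(A ⊗ A).hom⟩ Λ = (-1) ^ g * (d : ℤ) := by
  obtain ⟨gK, Q, gQ, q, P, hP, hi, hq, hQp, hQg, hqfin, hqflat, hqsurj, hker, hD, hpc⟩ := exists_pLike hL hK
  haveI := hi; haveI := hq; haveI := hQp; haveI := hQg; haveI := hqfin; haveI := hqflat; haveI := hqsurj
  haveI : IsProper (A ⊗ A).hom := inferInstanceAs (IsProper (pullback.fst A.hom A.hom ≫ A.hom))
  haveI : IsProper (A ⊗ Q).hom := inferInstanceAs (IsProper (pullback.fst A.hom Q.hom ≫ A.hom))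
  haveI : GeometricallyIntegral (A ⊗ A).hom := AbRigid.geometricallyIntegral_tensorObj A A
  haveI : GeometricallyIntegral (A ⊗ Q).hom := AbRigid.geometricallyIntegral_tensorObj A Q
  obtain ⟨d', hd', -, -⟩ := IsogEuler22.exists_free q
  obtain rfl : d' = d := by
    have hsq : IsPullback i.left (toUnit K).left q.left η[Q].left := IsPullback.map (Over.forget _) hker
    have h := Scheme.Hom.finrank_of_isPullback _ _ _ _ hsq (IsLocalRing.closedPoint k)
    rw [hd'] at h
    have e : (toUnit K).left = K.hom := Over.toUnit_left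
    exact h.symm.trans ((finrank_eq_of_eq e _).trans (hd _))
  obtain ⟨hfin, hflat, hrk⟩ := finrank_whiskerLeft (A := A) q hd'
  have hc : PicGrp.cls Λ hΛi = PicGrp.cls _ (PicLoc.isInvertible_pullback (A ◁ q).left hP) := by
    rw [hΛc, ← hpc, pb, PicGrp.pullHom_cls]
  obtain ⟨e⟩ := (PicGrp.cls_eq_cls_iff _ _).1 hc
  letI : (A ⊗ A).left.Over (Spec (CommRingCat.of k)) := ⟨(A ⊗ A).hom⟩
  rw [CurveCoh17.euler_iso (X := (A ⊗ A).left) e,
    IsogEuler22.euler_pullback (A ◁ q) d' hrk (CubeField.isCoh_of_isInvertible hP), euler_pLike hP hD hg, mul_comm]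

include hK hd hL in
/-- `χ(L)² = rank K(L)`. -/
theorem euler_sq_KL {g : ℕ} (hg : topologicalKrullDim A.left = g) :
    @Curv2.euler k _ A.left ⟨A.hom⟩ L ^ 2 = (d : ℤ) := by
  haveI : Smooth A.hom := @smooth_of_grpObj k _ _ A.hom _ (show GrpObj (Over.mk A.hom) from ‹GrpObj A›) _
  haveI := CubeField.geometricallyConnected_of_irreducible A.hom
  set c := PicGrp.cls L hL with hcdef
  have hnd : Index22.Nd c := nd_of_isKL hL hK
  obtain ⟨Λ, hΛi, hΛc'⟩ := PicGrp.exists_eq_cls (mumC c)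
  have hΛc : PicF.cl Λ = (mumC c).1 := by rw [hΛc']; rfl
  obtain ⟨D, hD, hDc⟩ := PicGrp.exists_eq_cls c⁻¹
  replace hDc := hDc.symm
  haveI : IsFinite (𝟙 A : A ⟶ A).left := by rw [Over.id_left]; infer_instance
  haveI : Flat (𝟙 A : A ⟶ A).left := by rw [Over.id_left]; infer_instance
  haveI : Surjective (𝟙 A : A ⟶ A).left := by rw [Over.id_left]; infer_instance
  haveI := Index22.isIso_shear (𝟙 A)
  haveI : IsIso (Index22.shear (𝟙 A)).left := inferInstanceAs (IsIso ((Over.forget _).map (Index22.shear (𝟙 A))))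
  letI : (A ⊗ A).left.Over (Spec (CommRingCat.of k)) := ⟨(A ⊗ A).hom⟩
  haveI : IsProper (A ⊗ A).hom := inferInstanceAs (IsProper (pullback.fst A.hom A.hom ≫ A.hom))
  haveI : GeometricallyIntegral (A ⊗ A).hom := AbRigid.geometricallyIntegral_tensorObj A A
  haveI : IsProper (snd A A).left := inferInstanceAs (IsProper (pullback.snd A.hom A.hom))
  haveI : Flat (snd A A).left := AbRigid.flat_snd_left A A
  haveI : IsLocallyNoetherian A.left := LocallyOfFiniteType.isLocallyNoetherian A.hom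
  haveI : CompactSpace A.left := QuasiCompact.compactSpace_of_compactSpace A.hom
  haveI : IsNoetherian A.left := {}
  obtain ⟨T, hT, hTc⟩ := PicGrp.exists_eq_cls (pb (fst A A) c⁻¹ * pb (snd A A) c)
  replace hTc := hTc.symm
  have hT' : @Curv2.euler k _ (A ⊗ A).left ⟨(A ⊗ A).hom⟩ T =
      @Curv2.euler k _ A.left ⟨A.hom⟩ D * @Curv2.euler k _ A.left ⟨A.hom⟩ L :=
    euler_box hD hL hT (by rw [hTc, hDc])
  set M := (Scheme.Modules.pullback (Index22.shear (𝟙 A)).left).obj T
  have hM : PicF.IsInvertible M := PicLoc.isInvertible_pullback _ hT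
  have hMc : PicGrp.cls M hM = Index22.pairClass (𝟙 A) c := by
    rw [show PicGrp.cls M hM = pb (Index22.shear (𝟙 A)) (PicGrp.cls T hT) from (PicGrp.pullHom_cls _ _ _ _).symm, hTc]
    simp only [Index22.pairClass, Index22.shear, map_mul, map_inv, pb_pb, lift_fst, lift_snd, Category.comp_id, pb_id]
    exact mul_comm _ _
  have hMe : @Curv2.euler k _ (A ⊗ A).left ⟨(A ⊗ A).hom⟩ M = @Curv2.euler k _ (A ⊗ A).left ⟨(A ⊗ A).hom⟩ T := by
    rw [IsogEuler22.euler_pullback (Index22.shear (𝟙 A)) 1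
      (fun y => congrFun (Scheme.Hom.finrank_eq_one_of_isIso _) y) (CubeField.isCoh_of_isInvertible hT),
      Nat.cast_one, _root_.one_mul]
  have hMΛ : pb (snd A A) c * (PicGrp.cls Λ hΛi : PicLoc.PicSet (A ⊗ A).left) = PicGrp.cls M hM := by
    rw [hMc, show (PicGrp.cls Λ hΛi : PicLoc.PicSet (A ⊗ A).left) = mumC c from Subtype.ext hΛc]
    simp only [mumC, Index22.pairClass, Category.comp_id, pb_id]
    rw [mul_comm, inv_mul_cancel_right]
  have hloc : ∀ y : A.left, ∃ W : A.left.Opens, y ∈ W ∧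
      Nonempty (M.restrict ((snd A A).left ⁻¹ᵁ W).ι ≅ Λ.restrict ((snd A A).left ⁻¹ᵁ W).ι) := by
    intro y
    obtain ⟨W, hyW, ⟨iW⟩⟩ := hL y
    refine ⟨W, hyW, ?_⟩
    let ι' := ((snd A A).left ⁻¹ᵁ W).ι
    suffices h : PicF.pullCl ι' (PicF.cl M) = PicF.pullCl ι' (PicF.cl Λ) by
      rw [PicLoc.pullCl_cl, PicLoc.pullCl_cl] at h
      exact ⟨(Scheme.Modules.restrictFunctorIsoPullback ι').app M ≪≫ ((PicGrp.cl_eq_cl_iff _ _).1 h).some ≪≫
        ((Scheme.Modules.restrictFunctorIsoPullback ι').app Λ).symm⟩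
    have h1 := congrArg Subtype.val hMΛ
    rw [PicGrp.mul_val, PicGrp.cls_val, PicGrp.cls_val] at h1
    have h2 : PicF.pullCl ι' (pb (snd A A) c).1 = PicF.cl (Coh.structureModule _) := by
      show PicF.pullCl ι' (PicF.pullCl (snd A A).left (PicF.cl L)) = _
      rw [pullCl_pullCl, show ι' ≫ (snd A A).left = (snd A A).left ∣_ W ≫ W.ι from (morphismRestrict_ι _ _).symm,
        ← pullCl_pullCl, PicLoc.pullCl_cl W.ι L,
        (PicGrp.cl_eq_cl_iff _ _).2 ⟨((Scheme.Modules.restrictFunctorIsoPullback W.ι).app L).symm ≪≫ iW⟩,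
        pullCl_structure]
    rw [← h1, pullCl_mulCl, h2, M2.one_mulCl]
  have key := euler_eq_of_local (k := k) (F := M) (F' := Λ) (snd A A).left (CubeField.isCoh_of_isInvertible hM)
    (CubeField.isCoh_of_isInvertible hΛi) (isFlatOver_proj (snd A A) hM) (isFlatOver_proj (snd A A) hΛi) g
    (fun y _ => SmoothReg17.isRegularLocalRing_stalk A.hom y)
    (fun y hy => (GrpField.ringKrullDim_stalk_eq A y hy).trans hg)
    (fun w => le_of_eq ((Index22.dim_fibre_snd w).trans hg))
    ((Index22.finite_bad (𝟙 A) (c := c) (by rwa [pb_id])).image CubeField.rpt)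
    (by rintro _ ⟨y, -, rfl⟩; exact isClosed_rpt y)
    (Index22.fibres_outside (𝟙 A) (by rwa [pb_id]) hM hMc) hloc
  rw [hMe, hT', euler_inverse hL hnd hD hDc hg, euler_mumford_KL hL hK hd hg hΛi hΛc'.symm, mul_assoc] at key
  have := mul_left_cancel₀ (pow_ne_zero g (by norm_num : (-1 : ℤ) ≠ 0)) key
  rw [sq, this]

end Groth.Agent.RRKL13

end
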