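import Groth.Agent.Lib.Seesaw22.AbCube
import Groth.Agent.Lib.AbDual21.Square

/-!
# Classes on `A × T` normalised along both axes are additive in the first variable
-/

set_option autoImplicit false
set_option linter.style.haveILetI false
set_option linter.unusedSectionVars false
set_option backward.isDefEq.respectTransparency false
set_option maxHeartbeats 1000000

universe u

open CategoryTheory Limits MonoidalCategory CartesianMonoidalCategory AlgebraicGeometry TopologicalSpace

open scoped MonObj GrpObj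

noncomputable section

namespace Groth.Agent.RRKL13

open CubeField Seesaw22 AlgEquiv22

noncomputable local instance instLawCube (Y : Scheme.{u}) : PicGrp.Law Y := M2.law Y

variable {k : Type u} [Field k] {A Q : Over (Spec (CommRingCat.of k))} [GrpObj A] [IsProper A.hom]
  [GeometricallyIntegral A.hom] [IsSeparated Q.hom] [LocallyOfFiniteType Q.hom] [QuasiCompact Q.hom]
  [IsIntegral Q.left]

set_option maxHeartbeats 2000000 in
/-- The theorem of the cube on `(A × A) × T` for a connected `T` with a rational point. -/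
theorem isTriv_cube_mixed (o : 𝟙_ (Over (Spec (CommRingCat.of k))) ⟶ Q) (N : ((A ⊗ A) ⊗ Q).left.Modules)
    (hN : PicF.IsInvertible N)
    (h₁ : IsTriv ((Scheme.Modules.pullback (lift (lift (1 : A ⊗ Q ⟶ A) (fst A Q)) (snd A Q)).left).obj N))
    (h₂ : IsTriv ((Scheme.Modules.pullback (lift (lift (fst A Q) (1 : A ⊗ Q ⟶ A)) (snd A Q)).left).obj N))
    (h₃ : IsTriv ((Scheme.Modules.pullback (lift (lift (fst A A) (snd A A)) (toUnit (A ⊗ A) ≫ o)).left).obj N)) :
    IsTriv N := by
  let S := Spec (CommRingCat.of k)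
  let e : S ⟶ A.left := η[A].left
  have he : e ≫ A.hom = 𝟙 S := Over.w η[A]
  have hone : ∀ {V : Over S}, (1 : V ⟶ A).left = V.hom ≫ e := fun {V} => rfl
  have hτ : ∀ b, IsTriv ((Scheme.Modules.pullback (sliceJ A.hom A.hom Q.hom e he e he b)).obj N) := by
    rintro (_ | _)
    · let u : pullback (slX A.hom A.hom e he ≫ pP A.hom A.hom) Q.hom ⟶ (A ⊗ Q).left :=
        pullback.lift (pullback.fst _ _) (pullback.snd _ _) (by
          rw [← pullback.condition]; exact congrArg (pullback.fst _ _ ≫ ·) (slX_pP A.hom A.hom e he).symm)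
      refine isTriv_of_eq ?_ ((isTriv_comp_iff u _ N).1 (h₂.pullback u))
      apply pullback.hom_ext
      · apply pullback.hom_ext <;> simp [u, sliceJ, sliceT, hone, reassoc_of% (slX_pP A.hom A.hom e he)]
      · simp [u, sliceJ, sliceT]
    · let u : pullback (slY A.hom A.hom e he ≫ pP A.hom A.hom) Q.hom ⟶ (A ⊗ Q).left :=
        pullback.lift (pullback.fst _ _) (pullback.snd _ _) (by
          rw [← pullback.condition]; exact congrArg (pullback.fst _ _ ≫ ·) (slY_pP A.hom A.hom e he).symm)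
      refine isTriv_of_eq ?_ ((isTriv_comp_iff u _ N).1 (h₁.pullback u))
      apply pullback.hom_ext
      · apply pullback.hom_ext <;> simp [u, sliceJ, sliceT, hone, reassoc_of% (slY_pP A.hom A.hom e he)]
      · simp [u, sliceJ, sliceT]
  let e' : S ⟶ Q.left := o.left
  have he' : e' ≫ Q.hom = 𝟙 S := Over.w o
  let z₀ : Q.left := e' (IsLocalRing.closedPoint k)
  let π := proj A.hom A.hom Q.hom
  have hbase : Q.left.fromSpecResidueField z₀ ≫ Q.hom ≫ e' = Q.left.fromSpecResidueField z₀ := by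
    let s : S := IsLocalRing.closedPoint k
    haveI : IsIso (e'.residueFieldMap s) := by
      refine (ConcreteCategory.isIso_iff_bijective _).2 ⟨(e'.residueFieldMap s).hom.injective, ?_⟩
      haveI : IsIso (Q.hom.residueFieldMap (e' s) ≫ e'.residueFieldMap s) := by
        rw [← Scheme.residueFieldMap_comp, Scheme.Hom.residueFieldMap_congr he', Scheme.residueFieldMap_id]
        exact @IsIso.comp_isIso _ _ _ _ _ _ _ inferInstance (IsIso.id _)
      have h := (ConcreteCategory.bijective_of_isIso (Q.hom.residueFieldMap (e' s) ≫ e'.residueFieldMap s)).2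
      intro b
      obtain ⟨a, ha⟩ := h b
      exact ⟨Q.hom.residueFieldMap (e' s) a, ha⟩
    rw [← cancel_epi (Spec.map (e'.residueFieldMap s))]
    show _ = Spec.map (e'.residueFieldMap s) ≫ Q.left.fromSpecResidueField (e' s)
    rw [← Category.assoc, Scheme.Hom.SpecMap_residueFieldMap_fromSpecResidueField, Category.assoc, ← Category.assoc e',
      he', Category.id_comp]
  have h0 : IsTriv ((Scheme.Modules.pullback (π.fiberι z₀)).obj N) := by
    let u : π.fiber z₀ ⟶ (A ⊗ A).left := π.fiberι z₀ ≫ pullback.fst (pP A.hom A.hom) Q.hom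
    refine isTriv_of_eq ?_ ((isTriv_comp_iff u _ N).1 (h₃.pullback u))
    apply pullback.hom_ext
    · apply pullback.hom_ext <;> simp [u]
    · have h4 : π.fiberι z₀ ≫ pullback.snd (pP A.hom A.hom) Q.hom ≫ Q.hom ≫ e' =
          π.fiberι z₀ ≫ pullback.snd (pP A.hom A.hom) Q.hom := by
        rw [← Category.assoc, ← Category.assoc, show π.fiberι z₀ ≫ pullback.snd (pP A.hom A.hom) Q.hom =
          π.fiberToSpecResidueField z₀ ≫ Q.left.fromSpecResidueField z₀ from pullback.condition,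
          Category.assoc, Category.assoc, hbase]
      refine Eq.trans ?_ h4
      show (u ≫ _) ≫ pullback.snd (pP A.hom A.hom) Q.hom = _
      rw [Category.assoc, show (lift (lift (fst A A) (snd A A)) (toUnit (A ⊗ A) ≫ o)).left ≫
        pullback.snd (pP A.hom A.hom) Q.hom = (A ⊗ A).hom ≫ e' from
          (congrArg Over.Hom.left (lift_snd (lift (fst A A) (snd A A)) (toUnit (A ⊗ A) ≫ o))).trans rfl]
      show (π.fiberι z₀ ≫ pullback.fst (pP A.hom A.hom) Q.hom) ≫ pP A.hom A.hom ≫ e' = _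
      rw [Category.assoc, pullback.condition_assoc]
  obtain ⟨U, hU, hzU, hUtriv⟩ := cube_clopen A.hom A.hom Q.hom e he e he hN hτ z₀ h0
  have hU' : (U : Set Q.left) = Set.univ := IsClopen.eq_univ ⟨hU, U.isOpen⟩ ⟨z₀, hzU⟩
  have hU'' : U = ⊤ := Opens.ext hU'
  subst hU''
  let ι₀ := (π ⁻¹ᵁ (⊤ : Q.left.Opens)).ι
  haveI : IsIso ι₀ := (Scheme.topIso (pullback (pP A.hom A.hom) Q.hom)).isIso_hom
  obtain ⟨i⟩ : IsTriv ((Scheme.Modules.pullback (𝟙 _)).obj N) :=
    isTriv_of_eq (IsIso.inv_hom_id ι₀) ((isTriv_comp_iff (inv ι₀) ι₀ N).1 (hUtriv.pullback (inv ι₀)))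
  exact ⟨((Scheme.Modules.pullbackId _).app N).symm ≪≫ i⟩

variable (o : 𝟙_ (Over (Spec (CommRingCat.of k))) ⟶ Q) {p : PicLoc.PicSet (A ⊗ Q).left}

/-- A class on `A × T` trivial on both axes is additive in the first variable. -/
theorem add_of_normalised (h0 : pb (lift (1 : Q ⟶ A) (𝟙 Q)) p = 1)
    (ho : pb (lift (𝟙 A) (toUnit A ≫ o)) p = 1) {V : Over (Spec (CommRingCat.of k))} (f g : V ⟶ A) (t : V ⟶ Q) :
    pb (lift (f * g) t) p = pb (lift f t) p * pb (lift g t) p := by
  let a₁ : (A ⊗ A) ⊗ Q ⟶ A := fst _ _ ≫ fst _ _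
  let a₂ : (A ⊗ A) ⊗ Q ⟶ A := fst _ _ ≫ snd _ _
  let q₃ : (A ⊗ A) ⊗ Q ⟶ Q := snd _ _
  let M : PicLoc.PicSet ((A ⊗ A) ⊗ Q).left :=
    pb (lift (a₁ * a₂) q₃) p * (pb (lift a₁ q₃) p * pb (lift a₂ q₃) p)⁻¹
  have key : ∀ {W : Over (Spec (CommRingCat.of k))} (a b : W ⟶ A) (t : W ⟶ Q),
      pb (lift (lift a b) t) M = pb (lift (a * b) t) p * (pb (lift a t) p * pb (lift b t) p)⁻¹ :=
    fun {W} a b t => by
      simp only [M, map_mul, map_inv, pb_pb, comp_lift, MonObj.comp_mul, a₁, a₂, q₃, lift_fst_assoc, lift_fst,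
        lift_snd]
  obtain ⟨N, hN, hMN⟩ := PicGrp.exists_eq_cls M
  have htriv : ∀ {W : Over (Spec (CommRingCat.of k))} (s : W ⟶ (A ⊗ A) ⊗ Q),
      pb s M = 1 → IsTriv ((Scheme.Modules.pullback s.left).obj N) := fun {W} s hs => by
    rw [hMN, pb, PicGrp.pullHom_cls, PicGrp.cls_eq_one_iff] at hs
    exact hs
  have h0' : ∀ {W : Over (Spec (CommRingCat.of k))} (t : W ⟶ Q), pb (lift (1 : W ⟶ A) t) p = 1 := fun t => by
    rw [show lift (1 : _ ⟶ A) t = t ≫ lift (1 : Q ⟶ A) (𝟙 Q) by simp, ← pb_pb, h0, map_one]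
  have hM : M = 1 := by
    rw [hMN, PicGrp.cls_eq_one_iff]
    refine isTriv_cube_mixed o N hN (htriv _ ?_) (htriv _ ?_) (htriv _ ?_)
    · rw [key, _root_.one_mul, h0', _root_.one_mul, mul_inv_cancel]
    · rw [key, _root_.mul_one, h0', _root_.mul_one, mul_inv_cancel]
    · have h : ∀ {W : Over (Spec (CommRingCat.of k))} (a : W ⟶ A), pb (lift a (toUnit W ≫ o)) p = 1 := fun a => by
        rw [show lift a (toUnit _ ≫ o) = a ≫ lift (𝟙 A) (toUnit A ≫ o) by simp, ← pb_pb, ho, map_one]
      rw [key, h, h, h]; simp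
  have := key f g t
  rwa [hM, map_one, eq_comm, mul_inv_eq_one] at this

end Groth.Agent.RRKL13
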